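import Mathlib.RingTheory.Nakayama
import Mathlib.RingTheory.Flat.TorsionFree
import Mathlib.RingTheory.DiscreteValuationRing.Basic
import Mathlib.RingTheory.Localization.FractionRing
import Mathlib.RingTheory.Localization.Away.Basic
import Mathlib.RingTheory.LocalRing.ResidueField.Basic
import Mathlib.RingTheory.TensorProduct.Quotient

/-!
# Reducedness and a nonzerodivisor
-/

universe u

open TensorProduct

namespace Groth.Agent.RedDVR15

/-- A Noetherian ring reduced modulo a nonzerodivisor is reduced near its zero locus. -/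
theorem exists_reduced_away (B : Type*) [CommRing B] [IsNoetherianRing B] (t : B) (ht : IsRightRegular t)
    [IsReduced (B ⧸ Ideal.span {t})] :
    ∃ r : B, r - 1 ∈ Ideal.span {t} ∧ ∀ n : B, IsNilpotent n → r * n = 0 := by
  have hle : nilradical B ≤ Ideal.span {t} • nilradical B := by
    intro n hn
    obtain ⟨g, rfl⟩ : t ∣ n := Ideal.mem_span_singleton.1 (Ideal.Quotient.eq_zero_iff_mem.1
      (((mem_nilradical.1 hn).map (Ideal.Quotient.mk (Ideal.span {t}))).eq_zero))
    have hg : g ∈ nilradical B := by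
      obtain ⟨m, hm⟩ := mem_nilradical.1 hn
      refine ⟨m, ?_⟩
      rw [mul_pow, mul_comm] at hm
      exact (ht.pow m) (by simpa using hm)
    rw [smul_eq_mul]
    exact Ideal.mul_mem_mul (Ideal.mem_span_singleton_self t) hg
  obtain ⟨r, hr, hr0⟩ := Submodule.exists_sub_one_mem_and_smul_eq_zero_of_fg_of_le_smul (Ideal.span {t})
    (nilradical B) (IsNoetherian.noetherian _) hle
  exact ⟨r, hr, fun n hn => hr0 n (mem_nilradical.2 hn)⟩

/-- Inverting an element which kills all nilpotents gives a reduced ring. -/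
theorem isReduced_away (B : Type*) [CommRing B] (r : B) (hr : ∀ n : B, IsNilpotent n → r * n = 0) :
    IsReduced (Localization.Away r) := by
  refine ⟨fun z ⟨m, hm⟩ => ?_⟩
  obtain ⟨b, s, rfl⟩ := IsLocalization.exists_mk'_eq (Submonoid.powers r) z
  rw [← IsLocalization.mk'_pow, IsLocalization.mk'_eq_zero_iff] at hm
  obtain ⟨⟨c, j, rfl⟩, hc⟩ := hm
  have hn : IsNilpotent (r ^ j * b) := ⟨m + 1, by
    rw [mul_pow, pow_succ (r ^ j), pow_succ b]
    linear_combination ((r ^ j) ^ m * b) * hc⟩
  refine (IsLocalization.mk'_eq_zero_iff _ _).2 ⟨⟨r ^ (j + 1), j + 1, rfl⟩, ?_⟩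
  have := hr _ hn
  change r ^ (j + 1) * b = 0
  rw [pow_succ]
  linear_combination this

variable (R : Type u) [CommRing R] [IsDomain R] [IsDiscreteValuationRing R]

theorem isLocalization_away_uniformizer {t : R} (ht : Irreducible t) :
    IsLocalization.Away t (FractionRing R) := by
  refine (IsLocalization.iff_of_le_of_exists_dvd (Submonoid.powers t) (nonZeroDivisors R) ?_ fun n hn => ?_).2 inferInstance
  · exact Submonoid.powers_le.2 (mem_nonZeroDivisors_of_ne_zero ht.ne_zero)
  · obtain ⟨i, u, rfl⟩ := IsDiscreteValuationRing.eq_unit_mul_pow_irreducible (nonZeroDivisors.ne_zero hn) ht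
    exact ⟨t ^ i, ⟨i, rfl⟩, (Units.mul_left_dvd).2 dvd_rfl⟩

theorem exists_reduced_away_of_flat (B : Type u) [CommRing B] [Algebra R B] [IsNoetherianRing B] [Module.Flat R B]
    [IsReduced (B ⊗[R] IsLocalRing.ResidueField R)] :
    ∃ r : B, (∀ p : Ideal B, p.IsPrime → (IsLocalRing.maximalIdeal R).map (algebraMap R B) ≤ p → r ∉ p) ∧
      IsReduced (Localization.Away r) := by
  obtain ⟨t, ht⟩ := IsDiscreteValuationRing.exists_irreducible R
  have hmap : (IsLocalRing.maximalIdeal R).map (algebraMap R B) = Ideal.span {algebraMap R B t} := by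
    rw [ht.maximalIdeal_eq, Ideal.map_span, Set.image_singleton]
  let e := Algebra.TensorProduct.quotIdealMapEquivTensorQuot B (IsLocalRing.maximalIdeal R)
  have : IsReduced (B ⊗[R] (R ⧸ IsLocalRing.maximalIdeal R)) := ‹IsReduced (B ⊗[R] IsLocalRing.ResidueField R)›
  have : IsReduced (B ⧸ (IsLocalRing.maximalIdeal R).map (algebraMap R B)) :=
    isReduced_of_injective e.toRingHom e.injective
  have : IsReduced (B ⧸ Ideal.span {algebraMap R B t}) := hmap ▸ this
  have hreg : IsSMulRegular B t := Module.Flat.isSMulRegular_of_nonZeroDivisors (mem_nonZeroDivisors_of_ne_zero ht.ne_zero)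
  obtain ⟨r, hr, hr0⟩ := exists_reduced_away B (algebraMap R B t) (fun x y h => hreg (by
    simp only [Algebra.smul_def]
    linear_combination h))
  refine ⟨r, fun p hp hle hrp => hp.ne_top ((Ideal.eq_top_iff_one p).2 ?_), isReduced_away B r hr0⟩
  have := p.sub_mem hrp (hle (hmap ▸ hr))
  simpa using this

end Groth.Agent.RedDVR15
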